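import Mathlib.Topology.Sheaves.Skyscraper
import Mathlib.Topology.Sheaves.LocalPredicate
import Mathlib.Topology.Sheaves.Functors

/-!
# Sections of inverse images of sheaves of sets as families of germs

For `i : Z ⟶ X` and a sheaf of sets `F` on `X` there is a map `ψ` from `i⁻¹F` to the sheaf of families of
germs of `F` at the points `i z` which are locally given by sections of `F`; it is injective on sections
and sends the unit to the families of germs of sections.
-/

set_option linter.style.haveILetI false

universe u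

open CategoryTheory CategoryTheory.Limits Opposite TopologicalSpace TopCat
open StalkSkyscraperPresheafAdjunctionAuxs

noncomputable section

namespace Groth.Agent.SpecSheaf.Pullback

variable {X Z : TopCat.{u}} (i : Z ⟶ X) (F : TopCat.Sheaf (Type u) X)

/-- The stalks of `F`. -/
abbrev St (x : X) : Type u := TopCat.Presheaf.stalk (C := Type u) (X := X) F.obj x

/-- The germ of a section. -/
abbrev gm {U : Opens X} (a : F.obj.obj (op U)) (x : X) (hx : x ∈ U) : St F x :=
  TopCat.Presheaf.germ (C := Type u) (X := X) F.obj U x hx a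

/-- Families given by one section. -/
def secPred : PrelocalPredicate fun z : Z => St F (i z) where
  pred {V} f := ∃ (U : Opens X) (h : ∀ z : V, i z.1 ∈ U) (a : F.obj.obj (op U)),
    ∀ z : V, f z = gm F a (i z.1) (h z)
  res {V' V} j f := by
    rintro ⟨U, h, a, ha⟩
    exact ⟨U, fun z => h (j z), a, fun z => ha (j z)⟩

/-- The sheaf of locally germ families. -/
def famSheaf : TopCat.Sheaf (Type u) Z := subsheafToTypes (secPred i F).sheafify

/-- A section as a family of germs. -/
def toFam : F ⟶ (TopCat.Sheaf.pushforward (Type u) i).obj (famSheaf i F) :=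
  ObjectProperty.homMk
    { app := fun U => ↾fun a => ⟨fun z => gm F a (i z.1) z.2,
        PrelocalPredicate.sheafifyOf ⟨U.unop, fun z => z.2, a, fun z => rfl⟩⟩
      naturality := fun U U' j => by
        refine ConcreteCategory.hom_ext _ _ fun a => Subtype.ext (funext fun z => ?_)
        exact TopCat.Presheaf.germ_res_apply F.obj j.unop _ _ a }

/-- The inverse image. -/
abbrev pull : TopCat.Sheaf (Type u) Z := (TopCat.Sheaf.pullback (Type u) i).obj F

/-- The unit on sections. -/
abbrev unit (U : Opens X) (a : F.obj.obj (op U)) : (pull i F).obj.obj (op ((Opens.map i).obj U)) :=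
  ((TopCat.Sheaf.pullbackPushforwardAdjunction (Type u) i).unit.app F).hom.app (op U) a

/-- The map to families of germs. -/
def ψ : pull i F ⟶ famSheaf i F :=
  ((TopCat.Sheaf.pullbackPushforwardAdjunction (Type u) i).homEquiv _ _).symm (toFam i F)

theorem ψ_unit (U : Opens X) (a : F.obj.obj (op U)) (z : ((Opens.map i).obj U : Opens Z)) :
    ((ψ i F).hom.app (op ((Opens.map i).obj U)) (unit i F U a)).1 z = gm F a (i z.1) z.2 := by
  have h := ((TopCat.Sheaf.pullbackPushforwardAdjunction (Type u) i).homEquiv F
    (famSheaf i F)).apply_symm_apply (toFam i F)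
  rw [Adjunction.homEquiv_apply] at h
  exact congrFun (congrArg Subtype.val
    (ConcreteCategory.congr_hom (congrArg (fun φ : F ⟶ (TopCat.Sheaf.pushforward (Type u) i).obj (famSheaf i F) =>
      (φ.hom.app (op U) : F.obj.obj (op U) ⟶ _)) h) a)) z

/-- The comparison of stalks. -/
def σ (z : Z) : St F (i z) ⟶ TopCat.Presheaf.stalk (C := Type u) (X := Z) (pull i F).obj z :=
  (TopCat.Presheaf.stalkFunctor (Type u) (i z)).map
      ((TopCat.Sheaf.pullbackPushforwardAdjunction (Type u) i).unit.app F).hom ≫
    TopCat.Presheaf.stalkPushforward (Type u) i (pull i F).obj z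

theorem σ_germ (z : Z) (U : Opens X) (hz : i z ∈ U) :
    TopCat.Presheaf.germ (C := Type u) (X := X) F.obj U (i z) hz ≫ σ i F z =
      ((TopCat.Sheaf.pullbackPushforwardAdjunction (Type u) i).unit.app F).hom.app (op U) ≫
        TopCat.Presheaf.germ (C := Type u) (X := Z) (pull i F).obj ((Opens.map i).obj U) z hz := by
  unfold σ
  erw [TopCat.Presheaf.stalkFunctor_map_germ_assoc]
  erw [TopCat.Presheaf.stalkPushforward_germ]
  rfl

theorem epi_σ (z : Z) : Epi (σ i F z) := by
  classical
  refine ⟨fun {A} u v huv => ?_⟩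
  let P := pull i F
  let φu : P ⟶ skyscraperSheaf z A := ObjectProperty.homMk (toSkyscraperPresheaf z u)
  let φv : P ⟶ skyscraperSheaf z A := ObjectProperty.homMk (toSkyscraperPresheaf z v)
  suffices hφ : φu = φv by
    rw [← fromStalk_to_skyscraper (𝓕 := P.obj) z u, ← fromStalk_to_skyscraper (𝓕 := P.obj) z v]
    exact congrArg (fun φ : P ⟶ skyscraperSheaf z A => fromStalk z φ.hom) hφ
  apply ((TopCat.Sheaf.pullbackPushforwardAdjunction (Type u) i).homEquiv F _).injective
  erw [Adjunction.homEquiv_apply, Adjunction.homEquiv_apply]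
  apply CategoryTheory.Sheaf.hom_ext
  ext1
  funext U
  by_cases hx : i z ∈ U.unop
  · change ((TopCat.Sheaf.pullbackPushforwardAdjunction (Type u) i).unit.app F).hom.app (op U.unop) ≫
        (toSkyscraperPresheaf z u).app (op ((Opens.map i).obj U.unop)) =
      ((TopCat.Sheaf.pullbackPushforwardAdjunction (Type u) i).unit.app F).hom.app (op U.unop) ≫
        (toSkyscraperPresheaf z v).app (op ((Opens.map i).obj U.unop))
    have hx' : z ∈ (Opens.map i).obj U.unop := hx
    simp only [toSkyscraperPresheaf_app]
    erw [dif_pos hx', dif_pos hx']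
    erw [← reassoc_of% (σ_germ i F z U.unop hx), ← reassoc_of% (σ_germ i F z U.unop hx),
      reassoc_of% huv]
  · exact ((if_neg hx).symm.ndrec terminalIsTerminal).hom_ext _ _

/-- Every section of the inverse image is near each point the image of a section. -/
theorem exists_eq_unit (V : Opens Z) (s : (pull i F).obj.obj (op V)) (z : Z) (hz : z ∈ V) :
    ∃ (U : Opens X) (_ : i z ∈ U) (a : F.obj.obj (op U)) (W : Opens Z) (_ : z ∈ W) (h1 : W ≤ V)
      (h2 : W ≤ (Opens.map i).obj U),
      (pull i F).obj.map (homOfLE h1).op s = (pull i F).obj.map (homOfLE h2).op (unit i F U a) := by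
  obtain ⟨t, ht⟩ := (CategoryTheory.epi_iff_surjective (σ i F z)).1 (epi_σ i F z)
    (TopCat.Presheaf.germ (C := Type u) (X := Z) (pull i F).obj V z hz s)
  obtain ⟨U, hU, a, rfl⟩ := TopCat.Presheaf.exists_germ_eq (C := Type u) (X := X) F.obj t
  have h := (ConcreteCategory.congr_hom (σ_germ i F z U hU) a).symm.trans ht
  obtain ⟨W, hzW, i₁, i₂, e⟩ :=
    TopCat.Presheaf.germ_eq (C := Type u) (X := Z) (F := (pull i F).obj) z hz hU _ _ h.symm
  exact ⟨U, hU, a, W, hzW, leOfHom i₁, leOfHom i₂, e⟩

/-- The families of germs of a section are locally given by sections. -/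
theorem ψ_injective (V : Opens Z) : Function.Injective ((ψ i F).hom.app (op V)) := by
  intro s t hst
  refine TopCat.Presheaf.section_ext (pull i F) V s t fun z hz => ?_
  obtain ⟨U, hU, a, W, hzW, h1, h2, e⟩ := exists_eq_unit i F V s z hz
  obtain ⟨U', hU', a', W', hzW', h1', h2', e'⟩ := exists_eq_unit i F V t z hz
  have key : ∀ {U : Opens X} (hU : i z ∈ U) (a : F.obj.obj (op U)) {W : Opens Z} (hzW : z ∈ W)
      (h1 : W ≤ V) (h2 : W ≤ (Opens.map i).obj U) (s : (pull i F).obj.obj (op V)),
      (pull i F).obj.map (homOfLE h1).op s = (pull i F).obj.map (homOfLE h2).op (unit i F U a) →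
      ((ψ i F).hom.app (op V) s).1 ⟨z, hz⟩ = gm F a (i z) hU := by
    intro U hU a W hzW h1 h2 s e
    have h := congrArg ((ψ i F).hom.app (op W)) e
    rw [NatTrans.naturality_apply, NatTrans.naturality_apply] at h
    exact (congrFun (congrArg Subtype.val h) ⟨z, hzW⟩).trans (ψ_unit i F U a ⟨z, h2 hzW⟩)
  have hgm : gm F a (i z) hU = gm F a' (i z) hU' := by
    rw [← key hU a hzW h1 h2 s e, ← key hU' a' hzW' h1' h2' t e', hst]
  have hs : ∀ {U : Opens X} (hU : i z ∈ U) (a : F.obj.obj (op U)) {W : Opens Z} (hzW : z ∈ W)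
      (h1 : W ≤ V) (h2 : W ≤ (Opens.map i).obj U) (s : (pull i F).obj.obj (op V)),
      (pull i F).obj.map (homOfLE h1).op s = (pull i F).obj.map (homOfLE h2).op (unit i F U a) →
      TopCat.Presheaf.germ (C := Type u) (X := Z) (pull i F).obj V z hz s = σ i F z (gm F a (i z) hU) := by
    intro U hU a W hzW h1 h2 s e
    refine (TopCat.Presheaf.germ_res_apply (pull i F).obj (homOfLE h1) z hzW s).symm.trans ?_
    rw [e, TopCat.Presheaf.germ_res_apply]
    exact (ConcreteCategory.congr_hom (σ_germ i F z U hU) a).symm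
  exact (hs hU a hzW h1 h2 s e).trans ((congrArg _ hgm).trans (hs hU' a' hzW' h1' h2' t e').symm)

end Groth.Agent.SpecSheaf.Pullback
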