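import Mathlib.Topology.Sheaves.SheafCondition.UniqueGluing
import Mathlib.Topology.LocallyConstant.Basic
import Groth.Agent.ProEtW.Spectral

/-!
# Extension of locally given families of germs from a closed subset of a spectral space

Variant of the argument of `S0153` for sheaves of sets in an arbitrary universe, with germs defined
by hand (Mathlib's stalks need the universe of values to be that of the space).
-/

set_option autoImplicit false
universe u
open CategoryTheory CategoryTheory.Limits Opposite TopologicalSpace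

noncomputable section

namespace Groth.Agent.SpecSheaf.ExtendGerm

variable {X : TopCat.{u}} (F : TopCat.Sheaf (Type (u + 1)) X)

/-- Sections defined near `x`. -/
def Pre (x : X) : Type (u + 1) := Σ U : {U : Opens X // x ∈ U}, F.obj.obj (op U.1)

/-- Sections agreeing near `x`. -/
def Rel (x : X) (p q : Pre F x) : Prop :=
  ∃ (W : Opens X) (_ : x ∈ W) (i : W ⟶ p.1.1) (j : W ⟶ q.1.1),
    F.obj.map i.op p.2 = F.obj.map j.op q.2

theorem res_res {A B C : Opens X} (i : A ⟶ B) (j : B ⟶ C) (k : A ⟶ C) (s : F.obj.obj (op C)) :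
    F.obj.map i.op (F.obj.map j.op s) = F.obj.map k.op s := by
  rw [← ConcreteCategory.comp_apply, ← Functor.map_comp]
  exact congrArg (fun e => F.obj.map e s) (Subsingleton.elim _ _)

theorem rel_equiv (x : X) : Equivalence (Rel F x) where
  refl p := ⟨p.1.1, p.1.2, 𝟙 _, 𝟙 _, rfl⟩
  symm := fun ⟨W, h, i, j, e⟩ => ⟨W, h, j, i, e.symm⟩
  trans := fun {p q r} ⟨W, h, i, j, e⟩ ⟨W', h', i', j', e'⟩ => by
    let a : W ⊓ W' ⟶ W := homOfLE inf_le_left
    let b : W ⊓ W' ⟶ W' := homOfLE inf_le_right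
    refine ⟨W ⊓ W', ⟨h, h'⟩, a ≫ i, b ≫ j', ?_⟩
    rw [← res_res F a i (a ≫ i), e, res_res F a j (b ≫ i'), ← res_res F b i' (b ≫ i'), e',
      res_res F b j' (b ≫ j')]

/-- The setoid of sections near `x`. -/
def preSetoid (x : X) : Setoid (Pre F x) := ⟨Rel F x, rel_equiv F x⟩

/-- The stalk. -/
def St (x : X) : Type (u + 1) := Quotient (preSetoid F x)

/-- The germ of a section. -/
def gm {U : Opens X} (a : F.obj.obj (op U)) (x : X) (hx : x ∈ U) : St F x :=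
  Quotient.mk (preSetoid F x) ⟨⟨U, hx⟩, a⟩

theorem gm_res {U V : Opens X} (i : U ⟶ V) (x : X) (hx : x ∈ U) (a : F.obj.obj (op V)) :
    gm F (F.obj.map i.op a) x hx = gm F a x (i.le hx) :=
  Quotient.sound ⟨U, hx, 𝟙 _, i, res_res F (𝟙 U) i i a⟩

theorem gm_eq {U V : Opens X} (x : X) (hU : x ∈ U) (hV : x ∈ V) (a : F.obj.obj (op U))
    (b : F.obj.obj (op V)) (h : gm F a x hU = gm F b x hV) :
    ∃ (W : Opens X) (_ : x ∈ W) (i : W ⟶ U) (j : W ⟶ V), F.obj.map i.op a = F.obj.map j.op b := by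
  exact Quotient.exact h

theorem sect_ext {U : Opens X} (a b : F.obj.obj (op U))
    (h : ∀ x (hx : x ∈ U), gm F a x hx = gm F b x hx) : a = b := by
  choose W hxW i j e using fun x : U => gm_eq F x.1 x.2 x.2 a b (h x.1 x.2)
  refine TopCat.Sheaf.eq_of_locally_eq' F W U i (fun x hx => Opens.mem_iSup.2 ⟨⟨x, hx⟩, hxW _⟩) a b
    fun x => ?_
  refine (e x).trans ?_
  exact congrArg (fun k : W x ⟶ U => F.obj.map k.op b) (Subsingleton.elim _ _)

/-- Specialization of germs. -/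
def sp {x y : X} (h : x ⤳ y) : St F y → St F x :=
  Quotient.lift (fun p : Pre F y => gm F p.2 x (h.mem_open p.1.1.2 p.1.2)) fun _ _ ⟨W, hy, i, j, e⟩ =>
    Quotient.sound ⟨W, h.mem_open W.2 hy, i, j, e⟩

theorem sp_gm {U : Opens X} (a : F.obj.obj (op U)) {x y : X} (h : x ⤳ y) (hy : y ∈ U) :
    sp F h (gm F a y hy) = gm F a x (h.mem_open U.2 hy) :=
  rfl

theorem sp_sp {x y z : X} (h : x ⤳ y) (h' : y ⤳ z) (t : St F z) :
    sp F h (sp F h' t) = sp F (h.trans h') t :=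
  Quotient.inductionOn (s := preSetoid F z) t fun _ => rfl

theorem sp_refl {x : X} (h : x ⤳ x) (t : St F x) : sp F h t = t :=
  Quotient.inductionOn (s := preSetoid F x) t fun _ => rfl

variable [SpectralSpace X] {Z : Set X}

/-- Locally germ families on `Z` extend uniquely to sections. -/
theorem exists_section (hZ : IsClosed Z) (hconn : ∀ x : X, IsConnected (Z ∩ closure {x}))
    (b : ∀ z : Z, St F (z : X))
    (hb : ∀ z : Z, ∃ (U : Opens X) (_ : (z : X) ∈ U) (a : F.obj.obj (op U)),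
      ∀ (z' : Z) (h : (z' : X) ∈ U), gm F a z' h = b z') :
    ∃ s : F.obj.obj (op ⊤), ∀ z : Z, gm F s z trivial = b z := by
  classical
  have hs : ∀ {x : X} (z : Z), (z : X) ∈ closure ({x} : Set X) → x ⤳ (z : X) := fun z h =>
    specializes_iff_mem_closure.2 h
  choose z₀ hz₀ using fun x : X => (hconn x).1
  let v : ∀ x : X, St F x := fun x => sp F (hs ⟨z₀ x, (hz₀ x).1⟩ (hz₀ x).2) (b ⟨z₀ x, (hz₀ x).1⟩)
  have hv : ∀ (x : X) (z : Z) (h : x ⤳ (z : X)), v x = sp F h (b z) := by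
    intro x z h
    let K : Set X := Z ∩ closure {x}
    haveI : PreconnectedSpace K := Subtype.preconnectedSpace (hconn x).2
    let φ : K → St F x := fun k => sp F (hs ⟨k.1, k.2.1⟩ k.2.2) (b ⟨k.1, k.2.1⟩)
    have hφ : IsLocallyConstant φ := (IsLocallyConstant.iff_exists_open φ).2 fun k => by
      obtain ⟨U, hU, a, ha⟩ := hb ⟨k.1, k.2.1⟩
      refine ⟨Subtype.val ⁻¹' (U : Set X), U.2.preimage continuous_subtype_val, hU, fun k' hk' => ?_⟩
      simp only [φ]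
      rw [← ha ⟨k.1, k.2.1⟩ hU, ← ha ⟨k'.1, k'.2.1⟩ hk', sp_gm, sp_gm]
    exact hφ.apply_eq_of_preconnectedSpace ⟨z₀ x, hz₀ x⟩ ⟨z, z.2, h.mem_closure⟩
  have hvsp : ∀ {x y : X} (h : y ⤳ x), v y = sp F h (v x) := fun {x y} h => by
    rw [hv y ⟨z₀ x, (hz₀ x).1⟩ (h.trans (hs ⟨z₀ x, (hz₀ x).1⟩ (hz₀ x).2)), ← sp_sp]
  have hW : ∀ z : Z, ∃ (U : Opens X) (_ : (z : X) ∈ U) (_ : IsCompact (U : Set X)) (a : F.obj.obj (op U)),
      ∀ (z' : Z) (h : (z' : X) ∈ U), gm F a z' h = b z' := fun z => by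
    obtain ⟨U, hU, a, ha⟩ := hb z
    obtain ⟨V, ⟨hVo, hVc⟩, hzV, hVU⟩ :=
      PrespectralSpace.isTopologicalBasis.exists_subset_of_mem_open (show (z : X) ∈ (U : Set X) from hU) U.2
    exact ⟨⟨V, hVo⟩, hzV, hVc, F.obj.map (homOfLE (show (⟨V, hVo⟩ : Opens X) ≤ U from hVU)).op a,
      fun z' h => (gm_res F _ _ h a).trans (ha z' (hVU h))⟩
  choose W hzW hWc a ha using hW
  obtain ⟨J, hJ⟩ := hZ.isCompact.elim_finite_subcover (fun z : Z => (W z : Set X)) (fun z => (W z).2)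
    fun x hx => Set.mem_iUnion.2 ⟨⟨x, hx⟩, hzW ⟨x, hx⟩⟩
  have hlocal : ∀ x : X, ∃ (U : Opens X) (_ : x ∈ U) (s : F.obj.obj (op U)),
      ∀ y (hy : y ∈ U), gm F s y hy = v y := by
    intro x
    obtain ⟨j₀, -, hj₀⟩ := Set.mem_iUnion₂.1 (hJ (hz₀ x).1)
    have hx₀ : x ∈ W j₀ := (hs ⟨z₀ x, (hz₀ x).1⟩ (hz₀ x).2).mem_open (W j₀).2 hj₀
    have hvx : v x = gm F (a j₀) x hx₀ := by
      rw [hv x ⟨z₀ x, (hz₀ x).1⟩ (hs ⟨z₀ x, (hz₀ x).1⟩ (hz₀ x).2), ← ha j₀ ⟨z₀ x, (hz₀ x).1⟩ hj₀, sp_gm]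
    let B : Set X := {y | ∃ h : y ∈ W j₀, gm F (a j₀) y h ≠ v y}
    suffices hx : x ∉ closure B by
      refine ⟨W j₀ ⊓ ⟨(closure B)ᶜ, isClosed_closure.isOpen_compl⟩, ⟨hx₀, hx⟩,
        F.obj.map (homOfLE inf_le_left).op (a j₀), fun y hy => ?_⟩
      refine (gm_res F _ _ hy (a j₀)).trans ?_
      by_contra h
      exact hy.2 (subset_closure ⟨hy.1, h⟩)
    intro hx
    let Bj : Z → Set X := fun j => {y | y ∈ B ∧ ∃ z : Z, (z : X) ∈ W j ∧ y ⤳ (z : X)}
    have hB : B ⊆ ⋃ j ∈ J, Bj j := fun y hy => by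
      obtain ⟨j, hj, hzj⟩ := Set.mem_iUnion₂.1 (hJ (hz₀ y).1)
      exact Set.mem_iUnion₂.2 ⟨j, hj, hy, ⟨z₀ y, (hz₀ y).1⟩, hzj, hs ⟨z₀ y, (hz₀ y).1⟩ (hz₀ y).2⟩
    have hx' := closure_mono hB hx
    rw [J.closure_biUnion] at hx'
    obtain ⟨j, -, hxj⟩ := Set.mem_iUnion₂.1 hx'
    let Ag : Set X := {y | ∃ (h₁ : y ∈ W j₀) (h₂ : y ∈ W j), gm F (a j₀) y h₁ = gm F (a j) y h₂}
    have hAg : IsOpen Ag := isOpen_iff_forall_mem_open.2 fun y ⟨h₁, h₂, he⟩ => by
      obtain ⟨O, hyO, i₁, i₂, e⟩ :=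
        gm_eq F y h₁ h₂ _ _ he
      refine ⟨O, fun w hw => ⟨i₁.le hw, i₂.le hw, ?_⟩, O.2, hyO⟩
      exact (gm_res F i₁ w hw _).symm.trans
        ((congrArg (fun r => gm F r w hw) e).trans (gm_res F i₂ w hw _))
    let ι := {C : Set X // (IsOpen C ∧ IsCompact C ∧ (x ∈ C ∨ Z ∩ W j ⊆ C)) ∨ C = Agᶜ}
    obtain ⟨y, hy⟩ := ProEtW.Spectral.nonempty_iInter_of_fip (fun C : ι => C.1)
      (fun C => C.2.imp (fun h => ⟨h.1, h.2.1⟩) fun h => h.symm ▸ hAg.isClosed_compl) fun s => by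
        let O : Set X := ⋂ C ∈ s, if x ∈ C.1 ∧ IsOpen C.1 then C.1 else Set.univ
        have hO : IsOpen O := isOpen_biInter_finset fun C _ => by
          split_ifs with h
          · exact h.2
          · exact isOpen_univ
        have hxO : x ∈ O := Set.mem_iInter₂.2 fun C _ => by
          split_ifs with h
          · exact h.1
          · trivial
        obtain ⟨w, hwO, hwB, z, hzj, hwz⟩ := mem_closure_iff.1 hxj O hO hxO
        refine ⟨w, Set.mem_iInter₂.2 fun C hC => ?_⟩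
        rcases C.2 with ⟨hCo, -, hC' | hC'⟩ | hC'
        · have := Set.mem_iInter₂.1 hwO C hC
          rwa [if_pos ⟨hC', hCo⟩] at this
        · exact hwz.mem_open hCo (hC' ⟨z.2, hzj⟩)
        · show w ∈ C.1
          rw [hC']
          rintro ⟨h₁, h₂, he⟩
          obtain ⟨h₁', hne⟩ := hwB
          refine hne (he.trans ?_)
          rw [hv w z hwz, ← ha j z hzj, sp_gm]
    have hy' := Set.mem_iInter.1 hy
    have hyx : y ⤳ x := PrespectralSpace.isTopologicalBasis.nhds_hasBasis.specializes_iff.2 ?_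
    swap
    · rintro C ⟨⟨hCo, hCc⟩, hxC⟩
      exact hy' ⟨C, Or.inl ⟨hCo, hCc, Or.inl hxC⟩⟩
    have hy₀ : y ∈ W j₀ := hyx.mem_open (W j₀).2 hx₀
    have hyj : y ∈ W j := hy' ⟨W j, Or.inl ⟨(W j).2, hWc j, Or.inr Set.inter_subset_right⟩⟩
    have hyK : ∃ z : Z, (z : X) ∈ W j ∧ y ⤳ (z : X) := by
      by_contra hne
      simp only [not_exists, not_and] at hne
      have hex : ∀ z : {z : Z // (z : X) ∈ W j}, ∃ C : Set X,
          (IsOpen C ∧ IsCompact C) ∧ (z.1 : X) ∈ C ∧ y ∉ C := fun z => by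
        have := hne z.1 z.2
        rw [PrespectralSpace.isTopologicalBasis.nhds_hasBasis.specializes_iff] at this
        simp only [not_forall] at this
        obtain ⟨C, ⟨hC, hzC⟩, hyC⟩ := this
        exact ⟨C, hC, hzC, hyC⟩
      choose C hCb hzC hyC using hex
      -- the trace of `Z` on `W j` is quasi-compact
      obtain ⟨T, hT⟩ := ((hWc j).inter_left hZ).elim_finite_subcover C (fun z => (hCb z).1)
        fun w hw => Set.mem_iUnion.2 ⟨⟨⟨w, hw.1⟩, hw.2⟩, hzC _⟩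
      have := hy' ⟨⋃ z ∈ T, C z, Or.inl ⟨isOpen_biUnion fun z _ => (hCb z).1,
        T.isCompact_biUnion fun z _ => (hCb z).2, Or.inr hT⟩⟩
      obtain ⟨z, -, hz⟩ := Set.mem_iUnion₂.1 this
      exact hyC z hz
    obtain ⟨z, hzj, hyz⟩ := hyK
    refine hy' ⟨Agᶜ, Or.inr rfl⟩ ⟨hy₀, hyj, ?_⟩
    rw [← sp_gm F (a j) hyz hzj, ha j z hzj, ← hv y z hyz, hvsp hyx, hvx, sp_gm]
  choose U hxU s hs' using hlocal
  obtain ⟨t, ht, -⟩ := TopCat.Sheaf.existsUnique_gluing' F U ⊤ (fun x => homOfLE le_top)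
    (fun x _ => Opens.mem_iSup.2 ⟨x, hxU x⟩) s fun x x' => by
      refine sect_ext F _ _ fun p hp => ?_
      exact ((gm_res F _ p hp (s x)).trans (hs' x p hp.1)).trans
        ((gm_res F _ p hp (s x')).trans (hs' x' p hp.2)).symm
  refine ⟨t, fun z => ?_⟩
  refine (gm_res F (homOfLE (le_top : U (z : X) ≤ ⊤)) _ (hxU _) t).symm.trans ?_
  have h := congrArg (fun r => gm F r (z : X) (hxU _)) (ht (z : X))
  refine h.trans ((hs' _ _ (hxU _)).trans ?_)
  rw [hv (z : X) z (specializes_refl _), sp_refl]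

end Groth.Agent.SpecSheaf.ExtendGerm
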