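import Groth.Agent.SpecSheaf.Pullback
import Mathlib.Topology.Sheaves.LocalPredicate
import Mathlib.Topology.Irreducible
import Mathlib.Topology.LocallyConstant.Basic

/-!
# Sheaves of sets detect connectedness of traces of point closures

If restriction of global sections of sheaves of sets to a closed subset `Z` is bijective, then
`Z` meets the closure of every point in a connected set.
-/

universe u

open CategoryTheory CategoryTheory.Limits Opposite TopologicalSpace TopCat
open Groth.Agent.SpecSheaf.Pullback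

noncomputable section

namespace Groth.Agent.SpecSheaf.ConnCrit

variable {X Y : TopCat.{u}} (i : Y ⟶ X) (F : TopCat.Sheaf (Type u) X)

/-- Sections with equal germs on the image have equal units. -/
theorem unit_eq {U : Opens X} (a a' : F.obj.obj (op U))
    (h : ∀ (y : Y) (hy : i y ∈ U), gm F a (i y) hy = gm F a' (i y) hy) :
    Pullback.unit i F U a = Pullback.unit i F U a' :=
  ψ_injective i F _ (Subtype.ext (funext fun z =>
    (ψ_unit i F U a z).trans ((h z.1 z.2).trans (ψ_unit i F U a' z).symm)))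

/-- Locally germ families are families of sections of the inverse image. -/
theorem exists_of_germs (b : ∀ y : Y, St F (i y))
    (hb : ∀ y : Y, ∃ (U : Opens X) (_ : i y ∈ U) (a : F.obj.obj (op U)),
      ∀ (y' : Y) (h : i y' ∈ U), gm F a (i y') h = b y') :
    ∃ s : (pull i F).obj.obj (op ((Opens.map i).obj ⊤)),
      ∀ y : Y, ((ψ i F).hom.app (op ((Opens.map i).obj ⊤)) s).1 ⟨y, trivial⟩ = b y := by
  choose U hU a ha using hb
  let W : Y → Opens Y := fun y => (Opens.map i).obj (U y)
  obtain ⟨s, hs, -⟩ := TopCat.Sheaf.existsUnique_gluing' (pull i F) W ((Opens.map i).obj ⊤)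
    (fun y => homOfLE fun _ _ => trivial) (fun y _ => Opens.mem_iSup.2 ⟨y, hU y⟩)
    (fun y => Pullback.unit i F (U y) (a y)) fun y y' => by
      refine ψ_injective i F _ (Subtype.ext (funext fun z => ?_))
      erw [NatTrans.naturality_apply, NatTrans.naturality_apply]
      exact (ψ_unit i F _ (a y) ⟨z.1, z.2.1⟩).trans ((ha y z.1 z.2.1).trans
        ((ha y' z.1 z.2.2).symm.trans (ψ_unit i F _ (a y') ⟨z.1, z.2.2⟩).symm))
  refine ⟨s, fun y => ?_⟩
  have h := congrArg ((ψ i F).hom.app (op (W y))) (hs y)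
  erw [NatTrans.naturality_apply] at h
  exact (congrFun (congrArg Subtype.val h) ⟨y, hU y⟩).trans
    ((ψ_unit i F _ (a y) ⟨y, hU y⟩).trans (ha y y (hU y)))

variable {Z : Set X}

/-- The inclusion of a subset. -/
abbrev inc (Z : Set X) : TopCat.of Z ⟶ X :=
  TopCat.ofHom ⟨(Subtype.val : Z → X), continuous_subtype_val⟩

variable (hb : ∀ F : TopCat.Sheaf (Type u) X, Function.Bijective
  (((TopCat.Sheaf.pullbackPushforwardAdjunction (Type u) (inc Z)).unit.app F).hom.app (op ⊤)))

include hb in
/-- Every nonempty closed subset meets `Z`. -/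
theorem inter_nonempty {C : Set X} (hC : IsClosed C) (hne : C.Nonempty) : (Z ∩ C).Nonempty := by
  by_contra he
  obtain ⟨c, hc⟩ := hne
  let T := TopCat.of C
  let F := (TopCat.Sheaf.pushforward (Type u) (inc C)).obj (TopCat.sheafToType T (ULift.{u} Bool))
  let s : Bool → F.obj.obj (op ⊤) := fun b => fun _ => ULift.up b
  have h : Pullback.unit (inc Z) F ⊤ (s true) = Pullback.unit (inc Z) F ⊤ (s false) := by
    refine unit_eq (inc Z) F _ _ fun z hz => ?_
    have hzC : (z : X) ∈ (⟨Cᶜ, hC.isOpen_compl⟩ : Opens X) := fun h => he ⟨z, z.2, h⟩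
    refine (TopCat.Presheaf.germ_res_apply F.obj (homOfLE le_top) (z : X) hzC (s true)).symm.trans
      ((congrArg (fun r => gm F r (z : X) hzC) ?_).trans
        (TopCat.Presheaf.germ_res_apply F.obj (homOfLE le_top) (z : X) hzC (s false)))
    exact funext fun x => absurd x.1.2 x.2
  exact Bool.noConfusion (congrArg ULift.down (congrFun ((hb F).1 h) ⟨⟨c, hc⟩, trivial⟩))

include hb in
/-- Closures of points meet `Z` in connected sets. -/
theorem isConnected_inter_closure (hZ : IsClosed Z) (x : X) : IsConnected (Z ∩ closure {x}) := by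
  classical
  refine ⟨inter_nonempty hb isClosed_closure ⟨x, subset_closure rfl⟩, ?_⟩
  refine isPreconnected_closed_iff.2 fun K K' hK hK' hcov hne hne' => ?_
  by_contra he
  let C : Set X := closure {x}
  let T := TopCat.of C
  haveI : PreconnectedSpace T :=
    Subtype.preconnectedSpace isIrreducible_singleton.closure.isConnected.isPreconnected
  let B : TopCat.{u} := TopCat.of (ULift.{u} Bool)
  let F := (TopCat.Sheaf.pushforward (Type u) (inc C)).obj (TopCat.sheafToTop (X := T) B)
  let s : Bool → F.obj.obj (op ⊤) := fun b => TopCat.ofHom (ContinuousMap.const _ (ULift.up b))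
  let b : ∀ z : Z, St F (z : X) := fun z => gm F (s (decide ((z : X) ∈ K))) z trivial
  have hloc : ∀ z : TopCat.of Z, ∃ (U : Opens X) (_ : inc Z z ∈ U) (a : F.obj.obj (op U)),
      ∀ (z' : TopCat.of Z) (h : inc Z z' ∈ U), gm F a (inc Z z') h = b z' := by
    intro z
    -- on the complement of the other piece the family is constant
    have key : ∀ (O : Opens X) (c : Bool), (∀ z' : Z, (z' : X) ∈ O → (z' : X) ∈ C →
        decide ((z' : X) ∈ K) = c) → ∀ (z' : Z) (h : (z' : X) ∈ O),
        gm F (F.obj.map (homOfLE le_top : O ⟶ ⊤).op (s c)) (z' : X) h = b z' := by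
      intro O c hO z' h
      refine (TopCat.Presheaf.germ_res_apply F.obj _ (z' : X) h (s c)).trans ?_
      by_cases hzC : (z' : X) ∈ C
      · rw [← hO z' h hzC]
      · have hzC' : (z' : X) ∈ (⟨Cᶜ, isClosed_closure.isOpen_compl⟩ : Opens X) := hzC
        refine (TopCat.Presheaf.germ_res_apply F.obj (homOfLE le_top) (z' : X) hzC' (s c)).symm.trans
          ((congrArg (fun r => gm F r (z' : X) hzC') ?_).trans
            (TopCat.Presheaf.germ_res_apply F.obj (homOfLE le_top) (z' : X) hzC' _))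
        exact TopCat.hom_ext (ContinuousMap.ext fun y => absurd y.1.2 y.2)
    by_cases hzK : (z.1 : X) ∈ Z ∩ C ∩ K
    · refine ⟨⟨(Z ∩ C ∩ K')ᶜ, (hZ.inter isClosed_closure).inter hK' |>.isOpen_compl⟩, fun h => he ⟨_, h.1, hzK.2, h.2⟩,
        _, key _ true fun z' h hC => ?_⟩
      rw [decide_eq_true_iff]
      exact (hcov ⟨z'.2, hC⟩).resolve_right fun hk => h ⟨⟨z'.2, hC⟩, hk⟩
    · refine ⟨⟨(Z ∩ C ∩ K)ᶜ, (hZ.inter isClosed_closure).inter hK |>.isOpen_compl⟩, hzK,
        _, key _ false fun z' h hC => ?_⟩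
      rw [decide_eq_false_iff_not]
      exact fun hk => h ⟨⟨z'.2, hC⟩, hk⟩
  obtain ⟨t', ht'⟩ := exists_of_germs (inc Z) F b hloc
  obtain ⟨t, rfl⟩ := (hb F).2 t'
  let tf : (Opens.toTopCat T).obj ((Opens.map (inc C)).obj ⊤) ⟶ B := t
  have hval : ∀ (z : Z) (hzC : (z : X) ∈ C),
      tf ⟨⟨(z : X), hzC⟩, trivial⟩ = ULift.up (decide ((z : X) ∈ K)) := by
    intro z hzC
    obtain ⟨O, hO, i₁, i₂, e⟩ := TopCat.Presheaf.germ_eq (C := Type u) (X := X) (F := F.obj) (z : X)
      _ _ _ _ ((ψ_unit (inc Z) F ⊤ t ⟨z, trivial⟩).symm.trans (ht' z))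
    exact congrArg (fun r : (Opens.toTopCat T).obj ((Opens.map (inc C)).obj O) ⟶ B => r ⟨⟨(z : X), hzC⟩, hO⟩) e
  obtain ⟨z, hz, hzK⟩ := hne
  obtain ⟨z', hz', hzK'⟩ := hne'
  have hconst : ∀ p q : (Opens.toTopCat T).obj ((Opens.map (inc C)).obj ⊤), tf p = tf q := by
    intro p q
    let k : T → ULift.{u} Bool := fun c => tf ⟨c, trivial⟩
    have hk : Continuous k := tf.hom.continuous.comp (continuous_id.subtype_mk _)
    exact IsLocallyConstant.apply_eq_of_preconnectedSpace
      ((IsLocallyConstant.iff_continuous k).2 hk) p.1 q.1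
  have h := (hval ⟨z, hz.1⟩ hz.2).symm.trans ((hconst _ _).trans (hval ⟨z', hz'.1⟩ hz'.2))
  rw [ULift.up.injEq, decide_eq_decide] at h
  exact he ⟨z', hz', h.1 hzK, hzK'⟩

end Groth.Agent.SpecSheaf.ConnCrit
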